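/-
Package Ker of S3805 (coordinator helper9): an involution with no conjugate in `N ∖ C1`
lies in `ker E ∩ ker F` for an exceptional pair `E, F`.
-/
import Cfsg.Agent.Lib.Helper9.S3805.Defs
import Cfsg.Agent.Lib.Helper3.ExcPair

set_option autoImplicit false

namespace Cfsg.Agent.Lib.Helper22.S3805

open Cfsg.Agent.Lib.Helper9.S3805

universe u

set_option maxRecDepth 100000 in
theorem p_sq_ne_one_of_inA1 : ∀ p : P, inA1 p = true → p * p ≠ 1 := by
  decide

set_option maxRecDepth 100000 in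
theorem p_invol_prod : ∀ p q : P, p * p = 1 → q * q = 1 → inA1 (p * q) = true →
    inC1 p = false ∧ inC1 q = false := by
  decide

/-- Involution counting with a general predicate `Q` (copy of `Helper3.exc_pair_ker`). -/
theorem exc_pair_ker_gen {G : Type u} [Group G] [Fintype G] {χ₁ χ₂ : G → ℂ}
    (h₁ : Cfsg.IsIrrCharacter G χ₁)
    (h₂ : Cfsg.IsIrrCharacter G χ₂) (hdeg : χ₁ 1 = χ₂ 1 + 1) (Q : G → Prop)
    (hval : ∀ g : G, Q g → χ₁ g - χ₂ g = 1) (z : G)
    (hz : ∀ x y : G, Q (x * z * x⁻¹ * (y * z * y⁻¹))) (hz' : Q z) :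
    χ₁ z = χ₁ 1 ∧ χ₂ z = χ₂ 1 := by
  have hd₁ := Cfsg.Agent.Lib.Helper80.char_one_ne_zero h₁
  have hd₂ := Cfsg.Agent.Lib.Helper80.char_one_ne_zero h₂
  have hG0 : (Nat.card G : ℂ) ≠ 0 := by
    have : Nat.card G ≠ 0 := Nat.card_pos.ne'
    exact_mod_cast this
  have key : ∀ χ : G → ℂ, Cfsg.IsIrrCharacter G χ →
      ∑ x : G, ∑ y : G, χ (x * z * x⁻¹ * (y * z * y⁻¹)) =
        (Nat.card G : ℂ) ^ 2 * (χ z) ^ 2 / χ 1 := by
    intro χ hχ
    obtain ⟨n, ρ, hirr, rfl⟩ := hχ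
    have hfin : (Module.finrank ℂ (Fin n → ℂ) : ℂ) = ρ.character 1 := by
      rw [Cfsg.Agent.Lib.Helper80.char_one_fin]
      simp
    have hinner : ∀ x : G, ∑ y : G, ρ.character (x * z * x⁻¹ * (y * z * y⁻¹)) =
        (Nat.card G : ℂ) * ρ.character z * ρ.character z / ρ.character 1 := by
      intro x
      rw [Cfsg.Agent.Lib.Helper81.sum_char_mul_conj ρ (x * z * x⁻¹) z, hfin]
      have : ρ.character (x * z * x⁻¹) = ρ.character z := ρ.char_conj z x
      rw [this]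
    simp_rw [hinner]
    rw [Finset.sum_const, Finset.card_univ, ← Nat.card_eq_fintype_card, nsmul_eq_mul]
    ring
  have hsum : ∑ x : G, ∑ y : G, (χ₁ (x * z * x⁻¹ * (y * z * y⁻¹)) -
      χ₂ (x * z * x⁻¹ * (y * z * y⁻¹))) = (Nat.card G : ℂ) ^ 2 := by
    have : ∀ x y : G, χ₁ (x * z * x⁻¹ * (y * z * y⁻¹)) - χ₂ (x * z * x⁻¹ * (y * z * y⁻¹)) = 1 :=
      fun x y => hval _ (hz x y)
    simp_rw [this]
    simp [Nat.card_eq_fintype_card, sq]
  simp_rw [Finset.sum_sub_distrib] at hsum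
  rw [key χ₁ h₁, key χ₂ h₂] at hsum
  have hzval := hval z hz'
  have hc : χ₁ z = χ₂ z + 1 := by linear_combination hzval
  rw [hc, hdeg] at hsum
  have hd₁' : χ₂ 1 + 1 ≠ 0 := by rw [← hdeg]; exact hd₁
  have hG2 : (Nat.card G : ℂ) ^ 2 ≠ 0 := pow_ne_zero 2 hG0
  have h5 : (χ₂ z + 1) ^ 2 / (χ₂ 1 + 1) - (χ₂ z) ^ 2 / χ₂ 1 = 1 := by
    have : (Nat.card G : ℂ) ^ 2 * ((χ₂ z + 1) ^ 2 / (χ₂ 1 + 1) - (χ₂ z) ^ 2 / χ₂ 1) =
        (Nat.card G : ℂ) ^ 2 * 1 := by
      rw [mul_one]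
      linear_combination hsum
    exact mul_left_cancel₀ hG2 this
  have h6 : (χ₂ z - χ₂ 1) ^ 2 = 0 := by
    field_simp at h5
    linear_combination (-1 : ℂ) * h5
  have h7 : χ₂ z = χ₂ 1 := by
    have := pow_eq_zero_iff (n := 2) (by norm_num) |>.1 h6
    exact sub_eq_zero.mp this
  exact ⟨by rw [hc, h7, hdeg], h7⟩

theorem pkgKer : Cfsg.Agent.Lib.Helper9.S3805.PkgKer.{u} := by
  intro hTIA G _ _ T M hLoc E F hEx z hz2 hz1 hzC
  cases nonempty_fintype G
  have hzinv : z⁻¹ = z := by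
    rw [inv_eq_iff_mul_eq_one]; exact hz2
  -- conjugates of `z` are involutions
  have hconj_sq : ∀ x : G, (x * z * x⁻¹) * (x * z * x⁻¹) = 1 := by
    intro x
    have : (x * z * x⁻¹) * (x * z * x⁻¹) = x * (z * z) * x⁻¹ := by group
    rw [this, hz2]; group
  have hinj : ∀ p : P, M.ψ p = 1 → p = 1 := by
    intro p hp
    apply M.inj
    rw [hp, map_one]
  have hQz : ∀ (x : G) (p : P), inA1 p = true → x * z * x⁻¹ ≠ M.ψ p := by
    intro x p hp heq
    apply p_sq_ne_one_of_inA1 p hp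
    apply hinj
    rw [map_mul, ← heq]
    exact hconj_sq x
  have core : ∀ (u v gu gv : G), u = gu * z * gu⁻¹ → v = gv * z * gv⁻¹ →
      ∀ p : P, inA1 p = true → u * v = M.ψ p → False := by
    intro u v gu gv hu hv p hp huv
    have hu2 : u * u = 1 := by rw [hu]; exact hconj_sq gu
    have hv2 : v * v = 1 := by rw [hv]; exact hconj_sq gv
    have huinv : u⁻¹ = u := by rw [inv_eq_iff_mul_eq_one]; exact hu2
    have hvinv : v⁻¹ = v := by rw [inv_eq_iff_mul_eq_one]; exact hv2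
    have hcj : u * M.ψ p * u⁻¹ = M.ψ p⁻¹ := by
      rw [map_inv, ← huv, mul_inv_rev, huinv, hvinv]
      calc u * (u * v) * u = (u * u) * v * u := by group
        _ = v * u := by rw [hu2, one_mul]
    have huN : u ∈ Subgroup.normalizer (T : Set G) := hTIA T M hLoc u p p⁻¹ hp hcj
    rw [← M.range_eq] at huN
    obtain ⟨p₁, hp₁⟩ := huN
    have hp₁C : inC1 p₁ = true := by
      by_contra hne
      have hf : inC1 p₁ = false := by simpa using hne
      exact hzC gu p₁ hf (by rw [hp₁, hu])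
    have hvp : v = M.ψ (p₁⁻¹ * p) := by
      rw [map_mul, map_inv, hp₁, ← huv, huinv]
      calc v = (u * u) * v := by rw [hu2, one_mul]
        _ = u * (u * v) := by group
    have hp₂C : inC1 (p₁⁻¹ * p) = true := by
      by_contra hne
      have hf : inC1 (p₁⁻¹ * p) = false := by simpa using hne
      exact hzC gv (p₁⁻¹ * p) hf (by rw [← hvp, hv])
    have hp₁sq : p₁ * p₁ = 1 := by
      apply hinj
      rw [map_mul, hp₁]; exact hu2
    have hp₂sq : (p₁⁻¹ * p) * (p₁⁻¹ * p) = 1 := by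
      apply hinj
      rw [map_mul, ← hvp]; exact hv2
    have hprod : inA1 (p₁ * (p₁⁻¹ * p)) = true := by
      have : p₁ * (p₁⁻¹ * p) = p := by group
      rw [this]; exact hp
    have h9 := (p_invol_prod p₁ (p₁⁻¹ * p) hp₁sq hp₂sq hprod).1
    rw [hp₁C] at h9
    exact Bool.noConfusion h9
  have hQ : ∀ x y : G, ∀ (g : G) (p : P), inA1 p = true →
      g * (x * z * x⁻¹ * (y * z * y⁻¹)) * g⁻¹ ≠ M.ψ p := by
    intro x y g p hp heq
    refine core ((g * x) * z * (g * x)⁻¹) ((g * y) * z * (g * y)⁻¹) (g * x) (g * y) rfl rfl p hp ?_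
    rw [← heq]; group
  have hres := exc_pair_ker_gen hEx.irrF hEx.irrE hEx.deg
    (fun g => ∀ (x : G) (p : P), inA1 p = true → x * g * x⁻¹ ≠ M.ψ p)
    (fun g hg => hEx.off g hg) z (fun x y => hQ x y) hQz
  exact ⟨hres.2, hres.1⟩

end Cfsg.Agent.Lib.Helper22.S3805
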